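import Mathlib

/-! The comparison theorem: maps from a complex of projectives to a resolution. -/

set_option autoImplicit false
set_option backward.isDefEq.respectTransparency false

universe v u

open CategoryTheory Limits HomologicalComplex

namespace Groth.Agent.LiftRes

variable {C : Type u} [Category.{v} C] [Abelian C] {Y Z : C}
  (P : ChainComplex C ℕ) (πP : P ⟶ (ChainComplex.single₀ C).obj Y)
  (Q : ChainComplex C ℕ) (πQ : Q ⟶ (ChainComplex.single₀ C).obj Z)

theorem d_comp_π : Q.d 1 0 ≫ πQ.f 0 = 0 := by rw [← πQ.comm 1 0, single_obj_d, comp_zero]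

variable [QuasiIso πQ]

include πQ in
theorem exact_succ (n : ℕ) : (ShortComplex.mk _ _ (Q.d_comp_d (n + 2) (n + 1) n)).Exact :=
  ((HomologicalComplex.exactAt_iff' _ (n + 2) (n + 1) n) (by simp only [ChainComplex.prev]; rfl) (by simp)).1
    (by rw [← quasiIsoAt_iff_exactAt' πQ (n + 1) (ChainComplex.exactAt_succ_single_obj _ _)]; infer_instance)

set_option backward.isDefEq.respectTransparency.types false in
set_option backward.defeqAttrib.useBackward true in
noncomputable def isColimit : IsColimit (CokernelCofork.ofπ _ (d_comp_π Q πQ)) := by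
  refine IsColimit.ofIsoColimit (Q.opcyclesIsCokernel 1 0 (by simp)) ?_
  refine Cofork.ext (Q.isoHomologyι₀.symm ≪≫ isoOfQuasiIsoAt πQ 0 ≪≫ singleObjHomologySelfIso _ _ _) ?_
  rw [← cancel_mono (singleObjHomologySelfIso (ComplexShape.down ℕ) 0 _).inv,
    ← cancel_mono (ChainComplex.isoHomologyι₀ _).hom]
  dsimp
  simp only [ChainComplex.isoHomologyι₀_inv_naturality_assoc, p_opcyclesMap_assoc, ChainComplex.single₀_obj_zero,
    Category.assoc, Iso.hom_inv_id, Category.comp_id, isoHomologyι_inv_hom_id, singleObjHomologySelfIso_inv_homologyι,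
    singleObjOpcyclesSelfIso_hom, ChainComplex.single₀ObjXSelf, Iso.refl_inv, Category.id_comp]

theorem exact₀ : (ShortComplex.mk _ _ (d_comp_π Q πQ)).Exact :=
  ShortComplex.exact_of_g_is_cokernel _ (isColimit Q πQ)

variable [∀ n, Projective (P.X n)]

theorem exists_lift (f : Y ⟶ Z) : ∃ φ : P ⟶ Q, φ ≫ πQ = πP ≫ (ChainComplex.single₀ C).map f := by
  haveI : Epi (πQ.f 0) := epi_of_isColimit_cofork (isColimit Q πQ)
  let f₀ : P.X 0 ⟶ Q.X 0 := Projective.factorThru (πP.f 0 ≫ f) (πQ.f 0)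
  have h₀ : (P.d 1 0 ≫ f₀) ≫ πQ.f 0 = 0 := by
    rw [Category.assoc, Projective.factorThru_comp, ← Category.assoc, d_comp_π P πP, zero_comp]
  let f₁ := (exact₀ Q πQ).liftFromProjective (P.d 1 0 ≫ f₀) h₀
  refine ⟨ChainComplex.mkHom _ _ f₀ f₁ ((exact₀ Q πQ).liftFromProjective_comp _ _)
    fun n ⟨g, g', w⟩ => ⟨(exact_succ Q πQ n).liftFromProjective (P.d (n + 2) (n + 1) ≫ g') (by simp [w]),
      (exact_succ Q πQ n).liftFromProjective_comp _ _⟩, ?_⟩
  ext
  simp [f₀]

theorem nonempty_homotopy (a b : P ⟶ Q) (h : a ≫ πQ = b ≫ πQ) : Nonempty (Homotopy a b) := by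
  refine ⟨Homotopy.equivSubZero.invFun ?_⟩
  let f := a - b
  have comm : f ≫ πQ = 0 := by simp [f, h]
  let g₀ := (exact₀ Q πQ).liftFromProjective (f.f 0) (congr_fun (congr_arg HomologicalComplex.Hom.f comm) 0)
  have e₀ : g₀ ≫ Q.d 1 0 = f.f 0 := (exact₀ Q πQ).liftFromProjective_comp _ _
  let g₁ := (exact_succ Q πQ 0).liftFromProjective (f.f 1 - P.d 1 0 ≫ g₀)
    (by rw [Preadditive.sub_comp, Category.assoc, HomologicalComplex.Hom.comm, e₀, sub_self])
  have e₁ : g₁ ≫ Q.d 2 1 = f.f 1 - P.d 1 0 ≫ g₀ := (exact_succ Q πQ 0).liftFromProjective_comp _ _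
  exact Homotopy.mkInductive _ g₀ e₀.symm g₁ (by simp [e₁, f]) fun n ⟨g, g', w⟩ =>
    ⟨(exact_succ Q πQ (n + 1)).liftFromProjective (f.f (n + 2) - P.d _ _ ≫ g') (by simp only [Preadditive.sub_comp, Category.assoc]; erw [HomologicalComplex.Hom.comm]; dsimp only [f] at w ⊢; rw [w, Preadditive.comp_add, ← Category.assoc, HomologicalComplex.d_comp_d, zero_comp, zero_add]; exact sub_self _),
      by erw [(exact_succ Q πQ (n + 1)).liftFromProjective_comp]; simp [f]⟩

end Groth.Agent.LiftRes
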